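import Cfsg.Agent.Lib.CharsMore.M24Local.Pair
import Cfsg.Agent.Lib.Spor.FischerTypes.Plus8

/-!
The common neighbours of two non-commuting transpositions generate a group whose generalized Fitting subgroup
is the simple orthogonal group.
-/

set_option autoImplicit false

namespace CfsgLib.CharsMore.M24Local

open Cfsg CfsgLib.ThreeTransp

theorem fstar_eq_of_simple_normal {L : Type*} [Group L] [Finite L] (N : Subgroup L) [N.Normal]
    [IsSimpleGroup ↥N] (hna : ¬ IsMulCommutative ↥N)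
    (hcen : Subgroup.centralizer (N : Set L) = ⊥) : generalizedFittingSubgroup L = N := by
  have hN : IsComponent N := ⟨Subgroup.Normal.isSubnormal inferInstance,
    Components.isQuasisimple_of_isSimpleGroup hna⟩
  have key : ∀ K : Subgroup L, ⁅K, N⁆ = ⊥ → K = ⊥ := fun K h =>
    le_bot_iff.1 (hcen ▸ Subgroup.commutator_eq_bot_iff_le_centralizer.1 h)
  refine le_antisymm ?_ ((Components.component_le_layer hN).trans Components.layer_le_fstar)
  rw [generalizedFittingSubgroup]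
  refine sup_le (Components.layer_le_iff.2 fun K hK => ?_) ?_
  · by_contra hle
    exact Components.component_ne_bot hK
      (key K (Components.component_commutator_eq_bot_of_not_le hK hN.1 hle))
  · have h : ⁅N, fittingSubgroup L⁆ = ⊥ :=
      le_bot_iff.1 ((Subgroup.commutator_mono (Components.component_le_layer hN) le_rfl).trans
        Components.layer_commutator_fitting.le)
    rw [Subgroup.commutator_comm] at h
    exact (key _ h).le.trans bot_le

theorem perm_three_facts : (∀ σ : Equiv.Perm (Fin 3), σ ≠ 1 → ∃ τ : Equiv.Perm (Fin 3),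
    σ ^ 3 = 1 ∨ ((τ * σ * τ⁻¹ * σ⁻¹) ^ 3 = 1 ∧ τ * σ * τ⁻¹ * σ⁻¹ ≠ 1)) ∧
    ∀ τ ρ : Equiv.Perm (Fin 3), ρ ^ 3 = 1 → τ * ρ * τ⁻¹ = ρ ∨ τ * ρ * τ⁻¹ = ρ⁻¹ := by decide +kernel

variable {G : Type*} [Group G] {D : Set G}

theorem centralizer_normal_eq_bot [Finite G] (hC : Closed3 D)
    (hall : ∀ a ∈ D, ∀ d ∈ D, ¬ Commute a d → PairFacts D a d)
    {a d : G} (ha : a ∈ D) (hd : d ∈ D) (hnc : ¬ Commute a d)
    (L : Subgroup G) (hL : L = Subgroup.centralizer ({a, d} : Set G))
    (N : Subgroup ↥L) [N.Normal]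
    [IsSimpleGroup ↥N] (hna : ¬ IsMulCommutative ↥N)
    (e3 : ↥L ⧸ N ≃* Equiv.Perm (Fin 3)) :
    Subgroup.centralizer (N : Set ↥L) = ⊥ := by
  have hF := hall a ha d hd hnc
  set C := Subgroup.centralizer (N : Set ↥L)
  haveI : C.Normal := Subgroup.normal_centralizer
  let ψ : ↥L →* Equiv.Perm (Fin 3) := e3.toMonoidHom.comp (QuotientGroup.mk' N)
  have hψN : ∀ x, ψ x = 1 → x ∈ N := fun x hx =>
    (QuotientGroup.eq_one_iff x).1 (e3.injective (hx.trans (map_one e3).symm))
  have hCN : ∀ x ∈ C, x ∈ N → x = 1 := by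
    intro x hxC hxN
    have hz : (⟨x, hxN⟩ : ↥N) ∈ Subgroup.center ↥N := Subgroup.mem_center_iff.2 fun y =>
      Subtype.ext (Subgroup.mem_centralizer_iff.1 hxC y y.2)
    rcases (inferInstance : (Subgroup.center ↥N).Normal).eq_bot_or_eq_top with h | h
    · rw [h, Subgroup.mem_bot] at hz
      exact congrArg Subtype.val hz
    · exact absurd (Subgroup.center_eq_top_iff.1 h) hna
  have hinj : ∀ x ∈ C, ψ x = 1 → x = 1 := fun x hx h => hCN x hx (hψN x h)
  rw [Subgroup.eq_bot_iff_forall]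
  intro x hx
  by_contra hne
  obtain ⟨c, hcC, hc1, hc3⟩ : ∃ c ∈ C, c ≠ 1 ∧ c ^ 3 = 1 := by
    obtain ⟨τ, hτ⟩ := perm_three_facts.1 (ψ x) fun h => hne (hinj x hx h)
    rcases hτ with h | ⟨h, h'⟩
    · exact ⟨x, hx, hne, hinj _ (pow_mem hx 3) (by rw [map_pow, h])⟩
    · obtain ⟨t, rfl⟩ := e3.surjective τ
      obtain ⟨t, rfl⟩ := QuotientGroup.mk'_surjective N t
      have hmem : t * x * t⁻¹ * x⁻¹ ∈ C :=
        mul_mem (Subgroup.Normal.conj_mem inferInstance x hx t) (inv_mem hx)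
      have he : ψ (t * x * t⁻¹ * x⁻¹) = ψ t * ψ x * (ψ t)⁻¹ * (ψ x)⁻¹ := by
        rw [map_mul, map_mul, map_mul, map_inv, map_inv]
      refine ⟨_, hmem, fun e => h' ?_, hinj _ (pow_mem hmem 3) ?_⟩
      · show ψ t * ψ x * (ψ t)⁻¹ * (ψ x)⁻¹ = 1
        rw [← he, e, map_one]
      · rw [map_pow, he]
        exact h
  have hconj : ∀ y : ↥L, y * c * y⁻¹ = c ∨ y * c * y⁻¹ = c⁻¹ := by
    intro y
    have h3 : ψ c ^ 3 = 1 := by rw [← map_pow, hc3, map_one]
    have hmem : y * c * y⁻¹ ∈ C := Subgroup.Normal.conj_mem inferInstance c hcC y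
    rcases perm_three_facts.2 (ψ y) (ψ c) h3 with h | h
    · refine Or.inl (mul_inv_eq_one.1 (hinj _ (mul_mem hmem (inv_mem hcC)) ?_))
      rw [map_mul, map_inv, map_mul, map_mul, map_inv, h, mul_inv_cancel]
    · refine Or.inr (mul_eq_one_iff_eq_inv.1 (hinj _ (mul_mem hmem hcC) ?_))
      rw [map_mul, map_mul, map_mul, map_inv, h, inv_mul_cancel]
  have hcG3 : (c : G) ^ 3 = 1 := by rw [← SubmonoidClass.coe_pow, hc3]; rfl
  have hcG1 : (c : G) ≠ 1 := fun h => hc1 (Subtype.ext h)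
  have hmemL : ∀ y ∈ common D a d, y ∈ L := fun y hy => hL ▸ mem_centralizer_pair.2 ⟨hy.2.1, hy.2.2.1⟩
  have hcenL : Subgroup.center ↥L = ⊥ := by subst hL; exact hF.struct.1
  -- some member inverts
  obtain ⟨y, hy, hyc⟩ : ∃ y ∈ common D a d, ¬ Commute y (c : G) := by
    by_contra hh
    push Not at hh
    have hz : c ∈ Subgroup.center ↥L := by
      refine Subgroup.mem_center_iff.2 fun w => Subtype.ext ?_
      have hle : Subgroup.closure (common D a d) ≤ Subgroup.centralizer ({(c : G)} : Set G) :=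
        (Subgroup.closure_le _).2 fun y hy => Subgroup.mem_centralizer_singleton_iff.2 (hh y hy).eq
      exact Subgroup.mem_centralizer_singleton_iff.1 (hle (by rw [← hF.gen, ← hL]; exact w.2))
    rw [hcenL] at hz
    exact hc1 (Subgroup.mem_bot.1 hz)
  have yi := ts_inv hC.ts hy.1
  have y2 := ts_mul_self hC.ts hy.1
  have hyinv : y * (c : G) * y = (c : G)⁻¹ := by
    rcases hconj ⟨y, hmemL y hy⟩ with h | h
    · have e := congrArg Subtype.val h
      exact absurd (show Commute y (c : G) from mul_inv_eq_iff_eq_mul.1 e) hyc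
    · have e := congrArg Subtype.val h
      simpa [yi] using e
  set y' := (c : G) * y * (c : G)⁻¹ with hy'
  have hy'D : y' ∈ D := hC.conj _ y hy.1
  have hprod : y * y' = (c : G) := by
    have hc2 : (c : G)⁻¹ * (c : G)⁻¹ = (c : G) := by
      rw [← mul_inv_rev, inv_eq_iff_mul_eq_one, ← pow_two, ← pow_succ, hcG3]
    calc y * y' = y * (c : G) * y * (c : G)⁻¹ := by rw [hy']; simp [mul_assoc]
      _ = (c : G) := by rw [hyinv, hc2]
  have hyy' : ¬ Commute y y' := by
    intro h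
    have h2 : (y * y') ^ 2 = 1 :=
      (invol_commute_iff (hC.ts.1 _ hy.1) (hC.ts.1 _ hy'D)).1 h
    rw [hprod] at h2
    rw [pow_succ, h2, one_mul] at hcG3
    exact hcG1 hcG3
  obtain ⟨f, hf, hf'⟩ := hF.three y hy
  have hline : ∀ i, f i = y' ∨ f i = y * y' * y := by
    intro i
    obtain ⟨hz, hzy⟩ := hf' i
    have zi := ts_inv hC.ts hz.1
    have h' : f i * (y * y') * f i = (y * y')⁻¹ := by
      rw [hprod]
      rcases hconj ⟨f i, hmemL _ hz⟩ with h | h
      · have e : Commute (f i) (c : G) := mul_inv_eq_iff_eq_mul.1 (congrArg Subtype.val h)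
        rw [← hprod] at e
        exact absurd (pair_commute_of_commute_prod hC hy.1 hy'D hyy' hz.1 e).1 hzy
      · simpa [zi] using congrArg Subtype.val h
    rcases mem_line_of_inverts hC (hall y hy.1 y' hy'D hyy') hy.1 hy'D hyy' hz.1 h' with e | e | e
    · exact absurd (by rw [e]) hzy
    · exact Or.inl e
    · exact Or.inr e
  obtain ⟨i, j, hij, heq⟩ : ∃ i j : Fin 3, i ≠ j ∧ f i = f j := by
    rcases hline 0 with e0 | e0 <;> rcases hline 1 with e1 | e1 <;> rcases hline 2 with e2 | e2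
    all_goals first
      | exact ⟨0, 1, by decide, e0.trans e1.symm⟩
      | exact ⟨0, 2, by decide, e0.trans e2.symm⟩
      | exact ⟨1, 2, by decide, e1.trans e2.symm⟩
  exact hij (hf heq)

theorem pOmega_plus_simple_nonabelian : IsSimpleGroup (POmega (ZMod 3) (quadFormPlus 4 (ZMod 3))) ∧
    ¬ IsMulCommutative (POmega (ZMod 3) (quadFormPlus 4 (ZMod 3))) := by
  haveI : Fact (Nat.Prime 3) := ⟨Nat.prime_three⟩
  haveI hs : IsSimpleGroup (POmega (ZMod 3) (quadFormPlus 4 (ZMod 3))) := by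
    rw [← OmegaEightThree.qf_eq]
    exact CfsgLib.Geometry.isSimpleGroup_pOmega _ (CfsgLib.Geometry.Oct.evenHyp8 (F := ZMod 3)).nondeg (by simp)
  refine ⟨hs, fun h => ?_⟩
  letI : CommGroup (POmega (ZMod 3) (quadFormPlus 4 (ZMod 3))) :=
    { (inferInstance : Group (POmega (ZMod 3) (quadFormPlus 4 (ZMod 3)))) with mul_comm := h.is_comm.comm }
  haveI : Finite (POmega (ZMod 3) (quadFormPlus 4 (ZMod 3))) := inferInstance
  have hp := IsSimpleGroup.prime_card (α := POmega (ZMod 3) (quadFormPlus 4 (ZMod 3)))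
  have hlow := CfsgLib.Spor.FischerTypes.card_pOmega_plus
  have hmul : Nat.card (Subgroup.center ↥(Omega (ZMod 3) (quadFormPlus 4 (ZMod 3)))) *
      Nat.card (POmega (ZMod 3) (quadFormPlus 4 (ZMod 3))) = 9904359628800 := by
    have h1 := (Subgroup.center ↥(Omega (ZMod 3) (quadFormPlus 4 (ZMod 3)))).card_mul_index
    rw [Subgroup.index_eq_card] at h1
    refine h1.trans ?_
    rw [← OmegaEightThree.qf_eq]
    exact OmegaEightThree.card_omega
  generalize Nat.card (POmega (ZMod 3) (quadFormPlus 4 (ZMod 3))) = p at hp hlow hmul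
  generalize Nat.card (Subgroup.center ↥(Omega (ZMod 3) (quadFormPlus 4 (ZMod 3)))) = z at hmul
  have hz : z ≤ 2 := by nlinarith
  interval_cases z
  · omega
  · exact absurd hp (by
      rw [show p = 4952179814400 * 2 by omega]
      exact Nat.not_prime_mul (by norm_num) (by norm_num))
  · exact absurd hp (by
      rw [show p = 2476089907200 * 2 by omega]
      exact Nat.not_prime_mul (by norm_num) (by norm_num))

theorem fstar_common [Finite G] (hC : Closed3 D)
    (hall : ∀ a ∈ D, ∀ d ∈ D, ¬ Commute a d → PairFacts D a d)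
    {a d : G} (ha : a ∈ D) (hd : d ∈ D) (hnc : ¬ Commute a d) (L : Subgroup G)
    (hL : L = Subgroup.centralizer ({a, d} : Set G)) :
    Nonempty (↥(generalizedFittingSubgroup ↥L) ≃* POmega (ZMod 3) (quadFormPlus 4 (ZMod 3))) ∧
      (∃ _ : (generalizedFittingSubgroup ↥L).Normal,
        Nonempty (↥L ⧸ generalizedFittingSubgroup ↥L ≃* Equiv.Perm (Fin 3))) := by
  subst hL
  obtain ⟨-, N, hN, ⟨eN⟩, ⟨e3⟩⟩ := (hall a ha d hd hnc).struct
  obtain ⟨hs, hna⟩ := pOmega_plus_simple_nonabelian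
  haveI := hN
  haveI : Nontrivial ↥N := eN.toEquiv.nontrivial
  haveI : IsSimpleGroup ↥N := IsSimpleGroup.isSimpleGroup_of_surjective eN.symm.toMonoidHom eN.symm.surjective
  have hna' : ¬ IsMulCommutative ↥N := fun h => hna ⟨⟨fun u v => by
    obtain ⟨u, rfl⟩ := eN.surjective u
    obtain ⟨v, rfl⟩ := eN.surjective v
    rw [← map_mul, ← map_mul, h.is_comm.comm u v]⟩⟩
  have e := fstar_eq_of_simple_normal N hna' (centralizer_normal_eq_bot hC hall ha hd hnc _ rfl N hna' e3)
  refine ⟨⟨(MulEquiv.subgroupCongr e).trans eN⟩, ?_⟩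
  have key : ∀ M : Subgroup ↥(Subgroup.centralizer ({a, d} : Set G)), M = N →
      ∃ _ : M.Normal, Nonempty (_ ⧸ M ≃* Equiv.Perm (Fin 3)) := fun M hM => by
    subst hM
    exact ⟨hN, ⟨e3⟩⟩
  exact key _ e

end CfsgLib.CharsMore.M24Local
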