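import Cfsg.Agent.Lib.BitPerm.Rep

/-!
The points moved by a letter of a system of networks, as a bit set.
-/

set_option autoImplicit false

namespace CfsgLib.CharsMore.M24Local

open CfsgLib.BitPerm

/-- the bits in which the image under the letter differs, up to a plane -/
noncomputable def movedUpTo (S : Sys) (x : ℕ) : ℕ → ℕ :=
  Nat.rec (motive := fun _ => ℕ) 0
    (fun j r => Nat.lor r (Nat.xor (S.act x (plane j S.k)) (plane j S.k)))

/-- the points moved by the letter -/
noncomputable def moved (S : Sys) (x : ℕ) : ℕ := movedUpTo S x S.k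

theorem testBit_movedUpTo {S : Sys} (h : S.okNets = true) (x i : ℕ) (hi : i < 2 ^ S.k)
    (hp : S.pt x i < 2 ^ S.k) : ∀ n, ((movedUpTo S x n).testBit i = true ↔
      ∃ j < n, (S.pt x i).testBit j ≠ i.testBit j)
  | 0 => by simp [movedUpTo]
  | n + 1 => by
    show (movedUpTo S x n ||| (S.act x (plane n S.k) ^^^ plane n S.k)).testBit i = true ↔ _
    rw [Nat.testBit_or, Nat.testBit_xor, Sys.testBit_act h, testBit_plane, testBit_plane,
      Bool.or_eq_true, testBit_movedUpTo h x i hi hp n]
    simp only [hi, hp, decide_true, Bool.true_and]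
    constructor
    · rintro (⟨j, hj, hne⟩ | hx)
      · exact ⟨j, by omega, hne⟩
      · exact ⟨n, Nat.lt_succ_self n, by simpa using hx⟩
    · rintro ⟨j, hj, hne⟩
      rcases Nat.lt_succ_iff_lt_or_eq.1 hj with h' | h'
      · exact Or.inl ⟨j, h', hne⟩
      · subst h'
        exact Or.inr (by simpa using hne)

theorem testBit_moved {S : Sys} (h : S.okNets = true) (x i : ℕ) (hi : i < 2 ^ S.k) :
    (moved S x).testBit i = true ↔ S.pt x i ≠ i := by
  have hp : S.pt x i < 2 ^ S.k := by
    by_contra hn
    have e := (Sys.ptW_bijective h [x]).1 (Sys.ptW_of_le h [x] (not_lt.1 hn) : S.ptW [x] (S.pt x i) = S.ptW [x] i)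
    omega
  rw [moved, testBit_movedUpTo h x i hi hp]
  constructor
  · rintro ⟨j, -, hne⟩ e
    exact hne (by rw [e])
  · intro hne
    by_contra hh
    push Not at hh
    refine hne (Nat.eq_of_testBit_eq fun j => ?_)
    by_cases hj : j < S.k
    · exact hh j hj
    · have hle : 2 ^ S.k ≤ 2 ^ j := Nat.pow_le_pow_right (by norm_num) (not_lt.1 hj)
      rw [Nat.testBit_lt_two_pow (lt_of_lt_of_le hp hle), Nat.testBit_lt_two_pow (lt_of_lt_of_le hi hle)]

theorem land_full_covers {n A : ℕ} (h : Nat.beq (Nat.land (Nat.sub (Nat.shiftLeft 1 n) 1) A)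
    (Nat.sub (Nat.shiftLeft 1 n) 1) = true) {i : ℕ} (hi : i < n) : A.testBit i = true := by
  have e := congrArg (fun B => Nat.testBit B i) (Nat.eq_of_beq_eq_true h)
  change (((1 <<< n) - 1) &&& A).testBit i = ((1 <<< n) - 1).testBit i at e
  rw [Nat.testBit_and, Nat.one_shiftLeft, Nat.testBit_two_pow_sub_one] at e
  simpa [hi] using e

theorem land_zero_disjoint {A B : ℕ} (h : Nat.beq (Nat.land A B) 0 = true) {i : ℕ}
    (hA : A.testBit i = true) : B.testBit i = false := by
  have e := congrArg (fun B => Nat.testBit B i) (Nat.eq_of_beq_eq_true h)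
  change (A &&& B).testBit i = (0 : ℕ).testBit i at e
  simpa [Nat.testBit_and, hA] using e

end CfsgLib.CharsMore.M24Local
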