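import Cfsg.Agent.Lib.ThreeTransp.Basic
import Cfsg.Agent.Lib.Components.FStar

/-!
Two non-commuting transpositions of a 3-transposition group: the normaliser of the subgroup of order three
they determine, given a few facts on their common neighbours.
-/

set_option autoImplicit false

namespace CfsgLib.CharsMore.M24Local

open Cfsg CfsgLib.ThreeTransp

variable {G : Type*} [Group G]

/-- the transpositions different from two given ones and commuting with both -/
def common (D : Set G) (a d : G) : Set G :=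
  {y : G | y ∈ D ∧ Commute a y ∧ Commute d y ∧ y ≠ a ∧ y ≠ d}

theorem mem_centralizer_pair {a d g : G} :
    g ∈ Subgroup.centralizer ({a, d} : Set G) ↔ Commute a g ∧ Commute d g := by
  rw [Subgroup.mem_centralizer_iff]
  constructor
  · exact fun h => ⟨h a (Or.inl rfl), h d (Or.inr rfl)⟩
  · rintro ⟨h1, h2⟩ x (rfl | rfl)
    exacts [h1, h2]

/-- the facts on the common neighbours that are to be checked -/
structure PairFacts (D : Set G) (a d : G) : Prop where
  fixed : ∀ x ∈ D, ¬ Commute x a → (∀ y ∈ common D a d, Commute x y) → x = d ∨ x = a * d * a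
  gen : Subgroup.centralizer ({a, d} : Set G) = Subgroup.closure (common D a d)
  struct : Subgroup.center ↥(Subgroup.centralizer ({a, d} : Set G)) = ⊥ ∧
    ∃ (N : Subgroup ↥(Subgroup.centralizer ({a, d} : Set G))) (_ : N.Normal),
      Nonempty (↥N ≃* Cfsg.POmega (ZMod 3) (Cfsg.quadFormPlus 4 (ZMod 3))) ∧
      Nonempty (↥(Subgroup.centralizer ({a, d} : Set G)) ⧸ N ≃* Equiv.Perm (Fin 3))
  width : Cfsg.commutingWidth (common D a d) = 8
  three : ∀ y ∈ common D a d, ∃ f : Fin 3 → G, Function.Injective f ∧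
    ∀ i, f i ∈ common D a d ∧ ¬ Commute y (f i)

/-- a conjugation-closed set of 3-transpositions -/
structure Closed3 (D : Set G) : Prop where
  ts : IsThreeTranspositionSet D
  conj : ∀ g : G, ∀ d ∈ D, g * d * g⁻¹ ∈ D

variable {D : Set G} (hC : Closed3 D) {a d : G}
include hC

theorem prod_facts (ha : a ∈ D) (hd : d ∈ D) (hnc : ¬ Commute a d) :
    (a * d) ^ 3 = 1 ∧ a * d ≠ 1 ∧ (a * d) * a * (a * d)⁻¹ = d ∧
      (a * d)⁻¹ * a * (a * d) = a * d * a ∧ a * (a * d) * a = (a * d)⁻¹ ∧
      d * (a * d) * d = (a * d)⁻¹ := by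
  have a2 := ts_mul_self hC.ts ha
  have d2 := ts_mul_self hC.ts hd
  have ai := ts_inv hC.ts ha
  have di := ts_inv hC.ts hd
  have hb := ts_braid hC.ts ha hd hnc
  refine ⟨ts_cube hC.ts ha hd hnc, fun h => hnc ?_, ?_, ?_, ?_, ?_⟩
  · rw [show d = a⁻¹ from eq_inv_of_mul_eq_one_right h, ai]
  · rw [mul_inv_rev, ai, di, ← mul_assoc, hb, mul_assoc (d * a), d2, mul_one, mul_assoc, a2, mul_one]
  · rw [mul_inv_rev, ai, di, mul_assoc d a a, a2, mul_one, hb, mul_assoc]
  · rw [mul_inv_rev, ai, di, ← mul_assoc, a2, one_mul]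
  · rw [mul_inv_rev, ai, di, mul_assoc d (a * d) d, mul_assoc a d d, d2, mul_one]

theorem pair_commute_of_commute_prod (ha : a ∈ D) (hd : d ∈ D) (hnc : ¬ Commute a d) {y : G} (hy : y ∈ D)
    (h : Commute y (a * d)) : Commute a y ∧ Commute d y := by
  obtain ⟨h3, h1, -, -, hinv, -⟩ := prod_facts hC ha hd hnc
  have ai := ts_inv hC.ts ha
  have yi := ts_inv hC.ts hy
  have hya : Commute y a := by
    by_contra hne
    have hw : (y * a) * (a * d) * (y * a)⁻¹ = (a * d)⁻¹ := by
      calc (y * a) * (a * d) * (y * a)⁻¹ = y * (a * (a * d) * a⁻¹) * y⁻¹ := by group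
        _ = y * (a * d)⁻¹ * y⁻¹ := by rw [ai, hinv]
        _ = (a * d)⁻¹ := by rw [h.inv_right.eq, mul_inv_cancel_right]
    have hw3 := ts_cube hC.ts hy ha hne
    generalize y * a = w at hw hw3
    generalize a * d = z at h3 h1 hw
    have e2 : w * (w * (w * z * w⁻¹) * w⁻¹) * w⁻¹ = z⁻¹ := by
      rw [hw, ← conj_inv, hw, inv_inv, hw]
    have e3 : w * (w * (w * z * w⁻¹) * w⁻¹) * w⁻¹ = z := by
      calc w * (w * (w * z * w⁻¹) * w⁻¹) * w⁻¹ = w ^ 3 * z * (w ^ 3)⁻¹ := by simp [pow_succ, mul_assoc]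
        _ = z := by rw [hw3]; simp
    apply h1
    have e4 : z * z = 1 := mul_eq_one_iff_eq_inv.2 (e3.symm.trans e2)
    rwa [pow_succ, pow_two, e4, one_mul] at h3
  refine ⟨hya.symm, ?_⟩
  have := (hya.mul_right h).symm
  rwa [← mul_assoc, ts_mul_self hC.ts ha, one_mul] at this

theorem common_of_commute_prod (ha : a ∈ D) (hd : d ∈ D) (hnc : ¬ Commute a d) {y : G} (hy : y ∈ D)
    (h : Commute y (a * d)) : y ∈ common D a d := by
  obtain ⟨h1, h2⟩ := pair_commute_of_commute_prod hC ha hd hnc hy h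
  exact ⟨hy, h1, h2, fun e => hnc (e ▸ h2).symm, fun e => hnc (e ▸ h1)⟩

theorem mem_line_of_inverts (hF : PairFacts D a d) (ha : a ∈ D) (hd : d ∈ D) (hnc : ¬ Commute a d)
    {x : G} (hx : x ∈ D) (h : x * (a * d) * x = (a * d)⁻¹) : x = a ∨ x = d ∨ x = a * d * a := by
  obtain ⟨h3, h1, -, -, -, -⟩ := prod_facts hC ha hd hnc
  have ai := ts_inv hC.ts ha
  have di := ts_inv hC.ts hd
  have xi := ts_inv hC.ts hx
  have a2 := ts_mul_self hC.ts ha
  have d2 := ts_mul_self hC.ts hd
  by_cases hxa : Commute x a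
  · left
    have e1 : x * d * x = a * d * a := by
      calc x * d * x = a⁻¹ * (x * (a * d) * x) := by
            rw [← mul_assoc x a d, hxa.eq]; group
        _ = a * d * a := by rw [h, mul_inv_rev, ai, di, mul_assoc]
    by_cases hxd : Commute x d
    · rw [hxd.eq, mul_assoc, ts_mul_self hC.ts hx, mul_one] at e1
      refine absurd ?_ hnc
      show a * d = d * a
      conv_rhs => rw [e1, mul_assoc, a2, mul_one]
    · rw [ts_braid hC.ts hx hd hxd] at e1
      have hb := ts_braid hC.ts ha hd hnc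
      calc x = d * (d * x * d) * d := by simp [mul_assoc, d2]; rw [← mul_assoc, d2, one_mul]
        _ = d * (d * a * d) * d := by rw [e1, hb]
        _ = a := by simp [mul_assoc, d2]; rw [← mul_assoc, d2, one_mul]
  · refine Or.inr (hF.fixed x hx hxa fun y hy => ?_)
    by_contra hxy
    have hyz : Commute y (a * d) := (hy.2.1.symm).mul_right hy.2.2.1.symm
    have hxyx : Commute (x * y * x) (a * d) := by
      have := (commute_conj_iff x).2 hyz.inv_right
      have hi : x * (a * d)⁻¹ * x = a * d := by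
        calc x * (a * d)⁻¹ * x = (x * (a * d) * x)⁻¹ := by
              rw [mul_inv_rev (x * (a * d)), mul_inv_rev x, xi, mul_assoc]
          _ = a * d := by rw [h, inv_inv]
      rw [xi, hi] at this
      exact this
    have hc := (pair_commute_of_commute_prod hC ha hd hnc (by
      have := hC.conj x y hy.1; rwa [xi] at this) hxyx).1
    rw [ts_braid hC.ts hx hy.1 hxy] at hc
    apply hxa
    have := ((hy.2.1.mul_right hc).mul_right hy.2.1).symm
    have y2 := ts_mul_self hC.ts hy.1
    rwa [show y * (y * x * y) * y = x by simp [mul_assoc, y2]; rw [← mul_assoc, y2, one_mul]] at this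

theorem mem_of_commute_prod (hF : PairFacts D a d) (ha : a ∈ D) (hd : d ∈ D) (hnc : ¬ Commute a d)
    {g : G} (hg : Commute g (a * d)) :
    g ∈ Subgroup.closure ({a, d} : Set G) ⊔ Subgroup.centralizer ({a, d} : Set G) := by
  obtain ⟨h3, h1, hza, hza', hinv, -⟩ := prod_facts hC ha hd hnc
  have ai := ts_inv hC.ts ha
  have a2 := ts_mul_self hC.ts ha
  have hzS : a * d ∈ Subgroup.closure ({a, d} : Set G) :=
    mul_mem (Subgroup.subset_closure (Or.inl rfl)) (Subgroup.subset_closure (Or.inr rfl))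
  have hx := mem_line_of_inverts hC hF ha hd hnc (hC.conj g a ha) (by
    have hi : g⁻¹ * (a * d) * g = a * d := by rw [hg.inv_left.eq, inv_mul_cancel_right]
    calc g * a * g⁻¹ * (a * d) * (g * a * g⁻¹) = g * (a * (g⁻¹ * (a * d) * g) * a) * g⁻¹ := by group
      _ = g * (a * d)⁻¹ * g⁻¹ := by rw [hi, hinv]
      _ = (a * d)⁻¹ := by rw [hg.inv_right.eq, mul_inv_cancel_right])
  obtain ⟨s, hs, hsz, hsa⟩ : ∃ s ∈ Subgroup.closure ({a, d} : Set G), Commute s (a * d) ∧
      s * a * s⁻¹ = g * a * g⁻¹ := by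
    rcases hx with e | e | e
    · exact ⟨1, one_mem _, Commute.one_left _, by rw [e]; group⟩
    · exact ⟨a * d, hzS, Commute.refl _, hza.trans e.symm⟩
    · exact ⟨(a * d)⁻¹, inv_mem hzS, (Commute.refl _).inv_left, by rw [inv_inv, hza', e]⟩
  have hr : s⁻¹ * g ∈ Subgroup.centralizer ({a, d} : Set G) := by
    have hca : Commute (s⁻¹ * g) a := by
      show s⁻¹ * g * a = a * (s⁻¹ * g)
      calc s⁻¹ * g * a = s⁻¹ * (g * a * g⁻¹) * g := by group
        _ = s⁻¹ * (s * a * s⁻¹) * g := by rw [hsa]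
        _ = a * (s⁻¹ * g) := by group
    have hcd : Commute (s⁻¹ * g) d := by
      have := hca.mul_right (hsz.inv_left.mul_left hg)
      rwa [← mul_assoc, a2, one_mul] at this
    exact mem_centralizer_pair.2 ⟨hca.symm, hcd.symm⟩
  have := mul_mem (Subgroup.mem_sup_left (T := Subgroup.centralizer ({a, d} : Set G)) hs) (Subgroup.mem_sup_right hr)
  rwa [mul_inv_cancel_left] at this

theorem closure_pair_cases (ha : a ∈ D) (hd : d ∈ D) (hnc : ¬ Commute a d) {g : G}
    (hg : g ∈ Subgroup.closure ({a, d} : Set G)) : ∃ i : ℤ, g = (a * d) ^ i ∨ g = (a * d) ^ i * a := by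
  obtain ⟨-, -, -, -, hinv, -⟩ := prod_facts hC ha hd hnc
  have ai := ts_inv hC.ts ha
  have a2 := ts_mul_self hC.ts ha
  have hflip : ∀ i : ℤ, a * (a * d) ^ i = (a * d) ^ (-i) * a := fun i => by
    have : (a * (a * d) * a⁻¹) ^ i = a * (a * d) ^ i * a⁻¹ := conj_zpow
    rw [ai, hinv, inv_zpow, ← zpow_neg] at this
    rw [this, mul_assoc, mul_assoc, a2, mul_one]
  induction hg using Subgroup.closure_induction with
  | mem x hx =>
    rcases hx with rfl | rfl
    · exact ⟨0, Or.inr (by simp)⟩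
    · exact ⟨-1, Or.inr (by
        rw [zpow_neg, zpow_one, mul_inv_rev, ai, ts_inv hC.ts hd, mul_assoc, a2, mul_one])⟩
  | one => exact ⟨0, Or.inl (by simp)⟩
  | mul x y _ _ hx hy =>
    obtain ⟨i, hi⟩ := hx
    obtain ⟨j, hj⟩ := hy
    rcases hi with rfl | rfl <;> rcases hj with rfl | rfl
    · exact ⟨i + j, Or.inl (zpow_add _ _ _).symm⟩
    · exact ⟨i + j, Or.inr (by rw [zpow_add, mul_assoc])⟩
    · exact ⟨i + -j, Or.inr (by rw [mul_assoc, hflip, zpow_add, mul_assoc])⟩
    · exact ⟨i + -j, Or.inl (by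
        rw [mul_assoc, ← mul_assoc a, hflip, mul_assoc _ a a, a2, mul_one, zpow_add])⟩
  | inv x _ hx =>
    obtain ⟨i, hi⟩ := hx
    rcases hi with rfl | rfl
    · exact ⟨-i, Or.inl (zpow_neg _ _).symm⟩
    · exact ⟨i, Or.inr (by rw [mul_inv_rev, ai, ← zpow_neg, hflip, neg_neg])⟩

theorem pair_inf_centralizer (ha : a ∈ D) (hd : d ∈ D) (hnc : ¬ Commute a d) :
    Subgroup.closure ({a, d} : Set G) ⊓ Subgroup.centralizer ({a, d} : Set G) = ⊥ := by
  obtain ⟨h3, h1, -, -, hinv, -⟩ := prod_facts hC ha hd hnc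
  rw [Subgroup.eq_bot_iff_forall]
  rintro g ⟨hgS, hgL⟩
  obtain ⟨hga, hgd⟩ := mem_centralizer_pair.1 hgL
  have key : ∀ i : ℤ, Commute a ((a * d) ^ i) → (a * d) ^ i = 1 := fun i hi => by
    have e : (a * (a * d) * a⁻¹) ^ i = a * (a * d) ^ i * a⁻¹ := conj_zpow
    rw [hi.eq, mul_inv_cancel_right, ts_inv hC.ts ha, hinv, inv_zpow] at e
    have e2 : ((a * d) ^ i) ^ 2 = 1 := by rw [pow_two]; exact mul_eq_one_iff_eq_inv.2 e.symm
    have e3 : ((a * d) ^ i) ^ 3 = 1 := by rw [← zpow_natCast, ← zpow_mul, mul_comm, zpow_mul, zpow_natCast, h3, one_zpow]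
    rwa [pow_succ, e2, one_mul] at e3
  obtain ⟨i, rfl | rfl⟩ := closure_pair_cases hC ha hd hnc hgS
  · exact key i hga
  · exfalso
    have hi : Commute a ((a * d) ^ i) := by
      have := hga.mul_right (Commute.refl a).inv_right
      rwa [mul_inv_cancel_right] at this
    rw [key i hi, one_mul] at hgd
    exact hnc hgd.symm

theorem pair_equiv_perm (ha : a ∈ D) (hd : d ∈ D) (hnc : ¬ Commute a d) [Finite G] :
    Nonempty (↥(Subgroup.closure ({a, d} : Set G)) ≃* Equiv.Perm (Fin 3)) := by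
  classical
  obtain ⟨h3, h1, hza, hza', hinv, hinv'⟩ := prod_facts hC ha hd hnc
  have a2 := ts_mul_self hC.ts ha
  have d2 := ts_mul_self hC.ts hd
  have ai := ts_inv hC.ts ha
  have di := ts_inv hC.ts hd
  have hb := ts_braid hC.ts ha hd hnc
  let f : Fin 3 → G := ![a, d, a * d * a]
  have hne : a ≠ d := fun e => hnc (e ▸ Commute.refl a)
  have hne1 : a ≠ a * d * a := fun e => hnc (by
    have hd1 : d = a := by
      calc d = a⁻¹ * (a * d * a) * a⁻¹ := by group
        _ = a := by rw [← e, ai, a2, one_mul]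
    rw [hd1])
  have hne2 : d ≠ a * d * a := fun e => hnc (by
    show a * d = d * a
    conv_rhs => rw [e, mul_assoc, a2, mul_one])
  have hf : Function.Injective f := by
    intro i j e
    fin_cases i <;> fin_cases j <;>
      first
      | rfl
      | exact (hne e).elim
      | exact (hne e.symm).elim
      | exact (hne1 e).elim
      | exact (hne1 e.symm).elim
      | exact (hne2 e).elim
      | exact (hne2 e.symm).elim
  have hex : ∀ g : ↥(Subgroup.closure ({a, d} : Set G)), ∃ σ : Equiv.Perm (Fin 3), ∀ i,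
      (g : G) * f i * (g : G)⁻¹ = f (σ i) := by
    suffices key : ∀ g ∈ Subgroup.closure ({a, d} : Set G), ∃ σ : Equiv.Perm (Fin 3), ∀ i,
        g * f i * g⁻¹ = f (σ i) from fun g => key g g.2
    intro g hg
    induction hg using Subgroup.closure_induction with
    | mem x hx =>
      rcases hx with rfl | rfl
      · refine ⟨Equiv.swap 1 2, fun i => ?_⟩
        fin_cases i
        · show x * x * x⁻¹ = x
          group
        · show x * d * x⁻¹ = x * d * x
          rw [ai]
        · show x * (x * d * x) * x⁻¹ = d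
          calc x * (x * d * x) * x⁻¹ = x * x * d := by group
            _ = d := by rw [a2, one_mul]
      · refine ⟨Equiv.swap 0 2, fun i => ?_⟩
        fin_cases i
        · show x * a * x⁻¹ = a * x * a
          rw [di, hb]
        · show x * x * x⁻¹ = x
          group
        · show x * (a * x * a) * x⁻¹ = a
          rw [di, hb]
          calc x * (x * a * x) * x = x * x * a * (x * x) := by group
            _ = a := by rw [d2, one_mul, mul_one]
    | one => exact ⟨1, fun i => by simp⟩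
    | mul x y _ _ hx hy =>
      obtain ⟨σ, hσ⟩ := hx
      obtain ⟨τ, hτ⟩ := hy
      refine ⟨σ * τ, fun i => ?_⟩
      rw [Equiv.Perm.mul_apply, ← hσ (τ i), ← hτ i]
      group
    | inv x _ hx =>
      obtain ⟨σ, hσ⟩ := hx
      refine ⟨σ⁻¹, fun i => ?_⟩
      have e := hσ (σ⁻¹ i)
      rw [show σ (σ⁻¹ i) = i from σ.apply_symm_apply i] at e
      rw [← e]
      group
  choose p hp using hex
  let φ : ↥(Subgroup.closure ({a, d} : Set G)) →* Equiv.Perm (Fin 3) :=
    MonoidHom.mk' p fun u v => Equiv.ext fun i => hf (by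
      rw [Equiv.Perm.mul_apply, ← hp, ← hp, ← hp, Subgroup.coe_mul]
      group)
  have hinj : Function.Injective φ := by
    rw [injective_iff_map_eq_one]
    intro g hg
    have hfix : ∀ i, (g : G) * f i = f i * g := fun i => by
      have e := hp g i
      rw [show p g = 1 from hg, Equiv.Perm.one_apply, mul_inv_eq_iff_eq_mul] at e
      exact e
    have : (g : G) ∈ Subgroup.closure ({a, d} : Set G) ⊓ Subgroup.centralizer ({a, d} : Set G) :=
      ⟨g.2, mem_centralizer_pair.2 ⟨(hfix 0).symm, (hfix 1).symm⟩⟩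
    rw [pair_inf_centralizer hC ha hd hnc, Subgroup.mem_bot] at this
    exact Subtype.ext this
  have hcard : 6 ≤ Nat.card ↥(Subgroup.closure ({a, d} : Set G)) := by
    have h2 : orderOf a = 2 := hC.ts.1 a ha
    have h3' : orderOf (a * d) = 3 := ts_orderOf_three hC.ts ha hd hnc
    have d1 := Subgroup.orderOf_dvd_natCard (Subgroup.closure ({a, d} : Set G)) (x := a) (Subgroup.subset_closure (Or.inl rfl))
    have d2 := Subgroup.orderOf_dvd_natCard (Subgroup.closure ({a, d} : Set G)) (x := a * d)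
      (mul_mem (Subgroup.subset_closure (Or.inl rfl)) (Subgroup.subset_closure (Or.inr rfl)))
    rw [h2] at d1
    rw [h3'] at d2
    exact Nat.le_of_dvd Nat.card_pos (Nat.Coprime.mul_dvd_of_dvd_of_dvd (by norm_num : Nat.Coprime 2 3) d1 d2)
  exact ⟨MulEquiv.ofBijective φ ((Nat.bijective_iff_injective_and_card φ).2 ⟨hinj, by
    have := Nat.card_le_card_of_injective φ hinj
    rw [Nat.card_perm, Nat.card_fin] at this ⊢
    exact le_antisymm this hcard⟩)⟩

theorem normalizer_prod (hF : PairFacts D a d) (ha : a ∈ D) (hd : d ∈ D) (hnc : ¬ Commute a d) :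
    Subgroup.closure ({a, d} : Set G) ⊔ Subgroup.centralizer ({a, d} : Set G) =
      Subgroup.normalizer ((Subgroup.zpowers (a * d) : Subgroup G) : Set G) := by
  obtain ⟨h3, h1, -, -, hinv, hinv'⟩ := prod_facts hC ha hd hnc
  have ai := ts_inv hC.ts ha
  have di := ts_inv hC.ts hd
  have hn : ∀ g : G, (g * (a * d) * g⁻¹ = a * d ∨ g * (a * d) * g⁻¹ = (a * d)⁻¹) →
      g ∈ Subgroup.normalizer ((Subgroup.zpowers (a * d) : Subgroup G) : Set G) := by
    intro g hg
    have hX : a * d ∈ Subgroup.zpowers (a * d) := Subgroup.mem_zpowers _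
    have hsymm : g⁻¹ * (a * d) * g ∈ Subgroup.zpowers (a * d) := by
      rcases hg with hg | hg
      · have e : g⁻¹ * (a * d) * g = a * d := by
          conv_lhs => rw [← hg]
          group
        rw [e]
        exact hX
      · rw [show g⁻¹ * (a * d) * g = (g⁻¹ * (a * d)⁻¹ * g)⁻¹ by group, ← hg]
        rw [show g⁻¹ * (g * (a * d) * g⁻¹) * g = a * d by group]
        exact inv_mem hX
    have hfwd : g * (a * d) * g⁻¹ ∈ Subgroup.zpowers (a * d) := by
      rcases hg with hg | hg <;> rw [hg]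
      exacts [hX, inv_mem hX]
    refine Subgroup.mem_normalizer_iff.2 fun w => ⟨fun hw => ?_, fun hw => ?_⟩
    · obtain ⟨k, rfl⟩ := Subgroup.mem_zpowers_iff.1 hw
      rw [← conj_zpow]
      exact zpow_mem hfwd k
    · obtain ⟨k, hk⟩ := Subgroup.mem_zpowers_iff.1 hw
      rw [show w = g⁻¹ * (g * w * g⁻¹) * g by group, ← hk,
        show g⁻¹ * (a * d) ^ k * g = (g⁻¹ * (a * d) * g) ^ k by
          simpa using (conj_zpow (i := k) (a := g⁻¹) (b := a * d)).symm]
      exact zpow_mem hsymm k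
  refine le_antisymm (sup_le ((Subgroup.closure_le _).2 ?_) fun g hg => ?_) fun g hg => ?_
  · rintro x (rfl | rfl)
    · exact hn _ (Or.inr (by rw [ai]; exact hinv))
    · exact hn _ (Or.inr (by rw [di]; exact hinv'))
  · obtain ⟨c1, c2⟩ := mem_centralizer_pair.1 hg
    exact hn _ (Or.inl (by rw [(c1.mul_left c2).symm.eq, mul_inv_cancel_right]))
  · have hz := (Subgroup.mem_normalizer_iff.1 hg (a * d)).1 (Subgroup.mem_zpowers _)
    obtain ⟨k, hk⟩ := Subgroup.mem_zpowers_iff.1 hz
    have ho : orderOf (a * d) = 3 := ts_orderOf_three hC.ts ha hd hnc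
    rw [← zpow_mod_orderOf, ho] at hk
    have hk3 : k % ((3 : ℕ) : ℤ) = 0 ∨ k % ((3 : ℕ) : ℤ) = 1 ∨ k % ((3 : ℕ) : ℤ) = 2 := by omega
    rcases hk3 with e | e | e <;> rw [e] at hk
    · rw [zpow_zero] at hk
      exfalso
      apply h1
      calc a * d = g⁻¹ * (g * (a * d) * g⁻¹) * g := by group
        _ = 1 := by rw [← hk]; group
    · rw [zpow_one, eq_mul_inv_iff_mul_eq] at hk
      exact mem_of_commute_prod hC hF ha hd hnc hk.symm
    · have hk' : g * (a * d) * g⁻¹ = (a * d)⁻¹ := by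
        rw [← hk]
        refine eq_inv_of_mul_eq_one_left ?_
        rw [show (2 : ℤ) = ((2 : ℕ) : ℤ) from rfl, zpow_natCast, ← pow_succ, h3]
      have hag : Commute (a * g) (a * d) := by
        show a * g * (a * d) = a * d * (a * g)
        calc a * g * (a * d) = a * (g * (a * d) * g⁻¹) * g := by group
          _ = a * (a * (a * d) * a) * g := by rw [hk', hinv]
          _ = a * a * (a * d) * (a * g) := by group
          _ = a * d * (a * g) := by rw [ts_mul_self hC.ts ha, one_mul]
      have := mul_mem (Subgroup.mem_sup_left (T := Subgroup.centralizer ({a, d} : Set G))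
        (inv_mem (Subgroup.subset_closure (Or.inl rfl : a ∈ ({a, d} : Set G)))))
        (mem_of_commute_prod hC hF ha hd hnc hag)
      rwa [inv_mul_cancel_left] at this

theorem inter_centralizer_prod (ha : a ∈ D) (hd : d ∈ D) (hnc : ¬ Commute a d) :
    D ∩ (Subgroup.centralizer ((Subgroup.zpowers (a * d) : Subgroup G) : Set G) : Set G) = common D a d := by
  ext y
  constructor
  · rintro ⟨hy, hc⟩
    exact common_of_commute_prod hC ha hd hnc hy ((Subgroup.mem_centralizer_iff.1 hc _ (Subgroup.mem_zpowers _)).symm)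
  · rintro ⟨hy, h1, h2, -, -⟩
    refine ⟨hy, Subgroup.mem_centralizer_iff.2 fun w hw => ?_⟩
    obtain ⟨k, rfl⟩ := Subgroup.mem_zpowers_iff.1 hw
    exact ((h1.mul_left h2).zpow_left k).eq

end CfsgLib.CharsMore.M24Local
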